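import Groth.Agent.Lib.DimClosedH1.Sop

/-!
# The dimension inequality at the closed fibre
-/

universe u

namespace Groth.Agent.DimClosedH1

open IsLocalRing Order

/-- `trdeg_A B ≤ dim (B / m B) + trdeg κ(B)`, and the right hand side is the transcendence degree of a
component of the closed fibre. -/
theorem exists_prime_dim_trdeg (A B : Type u) [CommRing A] [CommRing B] [IsDomain A] [IsDomain B]
    [IsLocalRing A] [IsLocalRing B] [Algebra A B] [IsLocalHom (algebraMap A B)] [FaithfulSMul A B]
    [Algebra.EssFiniteType A B] :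
    ∃ (d e : ℕ) (P : Ideal B) (_ : P.IsPrime) (_ : P.LiesOver (maximalIdeal A)),
      ringKrullDim (B ⧸ Ideal.map (algebraMap A B) (maximalIdeal A)) = d ∧
      Algebra.trdeg (ResidueField A) (ResidueField B) = e ∧
      Algebra.trdeg (A ⧸ maximalIdeal A) (B ⧸ P) = (d + e : ℕ) ∧
      Algebra.trdeg A B ≤ (d + e : ℕ) := by
  classical
  letI : Algebra (ResidueField A) (B ⧸ Ideal.map (algebraMap A B) (maximalIdeal A)) :=
    (Ideal.Quotient.lift (maximalIdeal A)
      ((Ideal.Quotient.mk (Ideal.map (algebraMap A B) (maximalIdeal A))).comp (algebraMap A B))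
      (fun a ha => Ideal.Quotient.eq_zero_iff_mem.mpr (Ideal.mem_map_of_mem _ ha))).toAlgebra
  let m := maximalIdeal A
  let I := Ideal.map (algebraMap A B) m
  let k := ResidueField A
  haveI : IsScalarTower A k (B ⧸ I) := IsScalarTower.of_algebraMap_eq fun a => rfl
  have hIm : I ≤ maximalIdeal B := IsLocalRing.map_maximalIdeal_le _
  have hItop : I ≠ ⊤ := fun h => (IsLocalRing.maximalIdeal.isMaximal B).ne_top (top_le_iff.mp (h ▸ hIm))
  haveI : Nontrivial (B ⧸ I) := Ideal.Quotient.nontrivial_iff.mpr hItop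
  haveI : IsLocalRing (B ⧸ I) := IsLocalRing.of_surjective' (Ideal.Quotient.mk I) Ideal.Quotient.mk_surjective
  haveI : Algebra.EssFiniteType A (B ⧸ I) := Algebra.EssFiniteType.comp A B (B ⧸ I)
  haveI : Algebra.EssFiniteType k (B ⧸ I) := Algebra.EssFiniteType.of_comp A k (B ⧸ I)
  haveI : IsNoetherianRing (B ⧸ I) := Algebra.EssFiniteType.isNoetherianRing k _
  obtain ⟨d, X, hXf, hXc, hdim, hXm, hXr⟩ := exists_sop I hItop
  let m0 := maximalIdeal (B ⧸ I)
  have hh : (d : ℕ∞) ≤ Order.height (⟨m0, inferInstance⟩ : PrimeSpectrum (B ⧸ I)) := by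
    have h := IsLocalRing.maximalIdeal_height_eq_ringKrullDim (R := B ⧸ I)
    rw [hdim] at h
    rw [← PrimeSpectrum.height_eq_orderHeight]
    exact_mod_cast h.ge
  obtain ⟨l, -, hlen⟩ := Order.exists_series_of_le_height (⟨m0, inferInstance⟩ : PrimeSpectrum (B ⧸ I)) hh
  let P0 := l.head
  let P : Ideal B := P0.asIdeal.comap (Ideal.Quotient.mk I)
  haveI : P.IsPrime := inferInstance
  have hIP : I ≤ P := fun a ha => by
    show Ideal.Quotient.mk I a ∈ P0.asIdeal
    rw [Ideal.Quotient.eq_zero_iff_mem.mpr ha]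
    exact zero_mem _
  haveI hPo : P.LiesOver (maximalIdeal A) := ⟨(IsLocalRing.maximalIdeal.isMaximal A).eq_of_le
    (Ideal.IsPrime.ne_top inferInstance) (Ideal.map_le_iff_le_comap.mp hIP)⟩
  let C := B ⧸ P
  haveI : Nontrivial C := Ideal.Quotient.nontrivial_iff.mpr (Ideal.IsPrime.ne_top inferInstance)
  haveI : IsLocalRing C := IsLocalRing.of_surjective' (Ideal.Quotient.mk P) Ideal.Quotient.mk_surjective
  letI : Algebra k C := Ideal.Quotient.algebraOfLiesOver P (maximalIdeal A)
  haveI : IsScalarTower A k C := IsScalarTower.of_algebraMap_eq fun a => rfl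
  haveI : Algebra.EssFiniteType A C := Algebra.EssFiniteType.comp A B C
  haveI : Algebra.EssFiniteType k C := Algebra.EssFiniteType.of_comp A k C
  have hdimC : ringKrullDim C = (d : ℕ) := by
    refine le_antisymm ((ringKrullDim_le_of_surjective (Ideal.Quotient.factor hIP)
      (Ideal.Quotient.factor_surjective hIP)).trans hdim.le) ?_
    let τ : C →+* (B ⧸ I) ⧸ P0.asIdeal := Ideal.Quotient.lift P
      ((Ideal.Quotient.mk P0.asIdeal).comp (Ideal.Quotient.mk I))
      (fun a ha => Ideal.Quotient.eq_zero_iff_mem.mpr ha)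
    refine le_trans ?_ (ringKrullDim_le_of_surjective τ (Ideal.Quotient.lift_surjective_of_surjective _ _
      (Ideal.Quotient.mk_surjective.comp Ideal.Quotient.mk_surjective)))
    rw [ringKrullDim_quotient]
    have h := Order.length_le_coheight_head (p := l)
    rw [hlen] at h
    calc ((d : ℕ) : WithBot ℕ∞) ≤ (Order.coheight P0 : WithBot ℕ∞) := by exact_mod_cast h
      _ = _ := by
        rw [Order.coheight_eq_krullDim_Ici]
        exact Order.krullDim_eq_of_orderIso (OrderIso.setCongr _ _ (by ext q; rfl))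
  have hPm : ∀ a ∈ P, residue B a = 0 := fun a ha =>
    (IsLocalRing.residue_eq_zero_iff a).mpr (IsLocalRing.le_maximalIdeal (Ideal.IsPrime.ne_top inferInstance) ha)
  let π : C →ₐ[k] ResidueField B :=
    { Ideal.Quotient.lift P (residue B) hPm with
      commutes' := fun r => by
        obtain ⟨a, rfl⟩ := IsLocalRing.residue_surjective r
        rfl }
  obtain ⟨d', e, hd', he, hC⟩ := dim_add_trdeg_local π (fun c => by
    obtain ⟨b, rfl⟩ := IsLocalRing.residue_surjective c
    exact ⟨Ideal.Quotient.mk _ b, rfl⟩)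
  have hdd : d' = d := by rw [hdimC] at hd'; exact_mod_cast hd'.symm
  subst hdd
  refine ⟨d', e, P, inferInstance, hPo, hdim, he, hC, ?_⟩
  obtain ⟨ι, y, hy⟩ := exists_isTranscendenceBasis' k (ResidueField B)
  have hι : Cardinal.mk ι = e := hy.cardinalMk_eq_trdeg.trans he
  haveI : Finite ι := Cardinal.lt_aleph0_iff_finite.mp (hι ▸ Cardinal.natCast_lt_aleph0)
  let lifty := Function.surjInv (IsLocalRing.residue_surjective (R := B))
  let Y : Set B := Set.range (lifty ∘ y)
  haveI := isAlgebraic_core (exists_integral_fraction (A := A) X Y hXf (Set.finite_range _) hXr hXm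
    (fun a => by
      rw [show residue B '' Y = Set.range y by
        rw [← Set.range_comp]; congr 1; funext i; exact Function.surjInv_eq _ _]
      exact hy.isAlgebraic.isAlgebraic _))
  refine (Algebra.IsAlgebraic.trdeg_le_cardinalMk A (X ∪ Y)).trans ((Cardinal.mk_union_le _ _).trans ?_)
  rw [Nat.cast_add]
  exact add_le_add hXc (Cardinal.mk_range_le.trans hι.le)

/-- Transcendence degrees are unchanged by passing to fractions. -/
theorem trdeg_square {R k T C : Type u} [CommRing R] [CommRing k] [CommRing T] [CommRing C]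
    [IsDomain R] [IsDomain k] [IsDomain T] [IsDomain C]
    [Algebra R k] [Algebra R T] [Algebra R C] [Algebra k C] [Algebra T C]
    [IsScalarTower R k C] [IsScalarTower R T C]
    [FaithfulSMul R k] [FaithfulSMul R T] [FaithfulSMul k C] [FaithfulSMul T C]
    (hk : ∀ b : k, ∃ t s : R, algebraMap R k t ≠ 0 ∧ b * algebraMap R k t = algebraMap R k s)
    (hC : ∀ b : C, ∃ t s : T, algebraMap T C t ≠ 0 ∧ b * algebraMap T C t = algebraMap T C s) :
    Algebra.trdeg R T = Algebra.trdeg k C := by
  haveI := algebraic_of_fractions hk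
  haveI := algebraic_of_fractions hC
  have h1 := trdeg_add_eq R T (A := C)
  have h2 := trdeg_add_eq R k (A := C)
  rw [trdeg_eq_zero (R := T) (A := C), add_zero] at h1
  rw [trdeg_eq_zero (R := R) (A := k), zero_add] at h2
  exact h1.trans h2.symm

end Groth.Agent.DimClosedH1
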