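import Mathlib
import Groth.Agent.Lib.VarDim.Alg

/-!
# The dimension formula for the closed fibre of a local extension of domains

Ingredients of `dim (B / m B) + trdeg κ(B) = trdeg B` for `A → B` local, essentially of finite type.
-/

universe u

namespace Groth.Agent.DimClosedH1

open IsLocalRing Order TensorProduct
open scoped Polynomial

set_option maxHeartbeats 1000000
set_option synthInstance.maxHeartbeats 100000

/-- elements which become algebraic after multiplication by a nonzero algebraic element -/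
lemma algebraic_of_fractions {T C : Type*} [CommRing T] [IsDomain T] [CommRing C] [IsDomain C] [Algebra T C]
    (h : ∀ b : C, ∃ t s : T, algebraMap T C t ≠ 0 ∧ b * algebraMap T C t = algebraMap T C s) :
    Algebra.IsAlgebraic T C := by
  refine ⟨fun b => ?_⟩
  obtain ⟨t, s, ht, e⟩ := h b
  refine IsAlgebraic.of_mul (mem_nonZeroDivisors_of_ne_zero ht) (isAlgebraic_algebraMap t) ?_
  rw [mul_comm, e]
  exact isAlgebraic_algebraMap s

lemma trdeg_eq_of_fractions {k T C : Type u} [Field k] [CommRing T] [IsDomain T] [CommRing C] [IsDomain C]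
    [Algebra k T] [Algebra k C] [Algebra T C] [IsScalarTower k T C]
    (hinj : Function.Injective (algebraMap T C))
    (h : ∀ b : C, ∃ t s : T, algebraMap T C t ≠ 0 ∧ b * algebraMap T C t = algebraMap T C s) :
    Algebra.trdeg k T = Algebra.trdeg k C := by
  haveI : FaithfulSMul T C := (faithfulSMul_iff_algebraMap_injective _ _).mpr hinj
  haveI := algebraic_of_fractions h
  rw [← trdeg_add_eq k T (A := C), trdeg_eq_zero (R := T) (A := C), add_zero]

lemma dim_add_trdeg_local {k C F : Type u} [Field k] [CommRing C] [IsDomain C] [IsLocalRing C] [Algebra k C]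
    [Algebra.EssFiniteType k C] [Field F] [Algebra k F] (π : C →ₐ[k] F) (hπ : Function.Surjective π) :
    ∃ d e : ℕ, ringKrullDim C = d ∧ Algebra.trdeg k F = e ∧ Algebra.trdeg k C = (d + e : ℕ) := by
  let T := Algebra.EssFiniteType.subalgebra k C
  let M := Algebra.EssFiniteType.submonoid k C
  haveI hloc : IsLocalization M C := Algebra.EssFiniteType.isLocalization k C
  let n : Ideal T := RingHom.ker (π.comp T.val)
  haveI : n.IsPrime := RingHom.ker_isPrime _
  have hker : RingHom.ker π = maximalIdeal C :=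
    IsLocalRing.eq_maximalIdeal (RingHom.ker_isMaximal_of_surjective π hπ)
  have hM : M = n.primeCompl := by
    ext t
    change IsUnit (t : C) ↔ ¬ (t ∈ n)
    rw [show t ∈ n ↔ (t : C) ∈ RingHom.ker π from Iff.rfl, hker, IsLocalRing.mem_maximalIdeal]
    simp [mem_nonunits_iff]
  haveI : IsLocalization.AtPrime C n := by
    show IsLocalization n.primeCompl C
    rw [← hM]; exact hloc
  have hfrac : ∀ b : C, ∃ t s : T, t ∈ M ∧ b * (t : C) = s := fun b => by
    obtain ⟨⟨s, t⟩, e⟩ := IsLocalization.surj M b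
    exact ⟨t, s, t.2, e⟩
  have hT : Algebra.trdeg k T = Algebra.trdeg k C := trdeg_eq_of_fractions Subtype.val_injective fun b => by
    obtain ⟨t, s, ht, e⟩ := hfrac b
    exact ⟨t, s, IsUnit.ne_zero ht, e⟩
  letI : Algebra (T ⧸ n) F := (Ideal.Quotient.liftₐ n (π.comp T.val) fun a ha => ha).toRingHom.toAlgebra
  haveI : IsScalarTower k (T ⧸ n) F := IsScalarTower.of_algebraMap_eq fun r =>
    ((Ideal.Quotient.liftₐ n (π.comp T.val) fun a ha => ha).commutes r).symm
  have hF : Algebra.trdeg k (T ⧸ n) = Algebra.trdeg k F := by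
    refine trdeg_eq_of_fractions (RingHom.lift_injective_of_ker_le_ideal _ _ le_rfl) fun b => ?_
    obtain ⟨c, rfl⟩ := hπ b
    obtain ⟨t, s, ht, e⟩ := hfrac c
    refine ⟨Ideal.Quotient.mk n t, Ideal.Quotient.mk n s, ?_, ?_⟩
    · exact ((show IsUnit (t : C) from ht).map π).ne_zero
    · show π c * π (t : C) = π (s : C)
      rw [← map_mul, e]
  have h1 := IsLocalization.AtPrime.ringKrullDim_eq_height n C
  have h2 := Groth.Agent.VarDim.height_add_coheight_nat k T ⟨n, inferInstance⟩
  rw [Groth.Agent.VarDim.coheight_eq_tdeg k T ⟨n, inferInstance⟩, ← PrimeSpectrum.height_eq_orderHeight] at h2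
  change n.height + (Groth.Agent.VarDim.tdeg k (T ⧸ n) : ℕ∞) = _ at h2
  obtain ⟨d, hd⟩ : ∃ d : ℕ, n.height = d :=
    ⟨_, (ENat.coe_toNat (ne_top_of_le_ne_top (by simp) (h2 ▸ le_self_add))).symm⟩
  rw [hd] at h1 h2
  refine ⟨d, Groth.Agent.VarDim.tdeg k (T ⧸ n), h1, ?_, ?_⟩
  · rw [← hF]
    exact Groth.Agent.VarDim.trdeg_eq_tdeg k _
  · rw [← hT, Groth.Agent.VarDim.trdeg_eq_tdeg k T]
    congr 1
    exact_mod_cast h2.symm

lemma algebraicIndependent_of_flat {A B L ι : Type u} [CommRing A] [IsLocalRing A] [CommRing B] [Algebra A B]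
    [Module.Flat A B] [CommRing L] [Algebra (ResidueField A) L] [Algebra A L]
    [IsScalarTower A (ResidueField A) L] (φ : B →ₐ[A] L) (z : ι → B)
    (h : AlgebraicIndependent (ResidueField A) (φ ∘ z)) : AlgebraicIndependent A z := by
  let v : (ι →₀ ℕ) → B := fun s => MvPolynomial.aeval z (MvPolynomial.monomial s (1 : A))
  have hw : LinearIndependent (ResidueField A)
      ((MvPolynomial.aeval (φ ∘ z)).toLinearMap ∘ MvPolynomial.basisMonomials ι (ResidueField A)) :=
    (MvPolynomial.basisMonomials ι (ResidueField A)).linearIndependent.map' _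
      (LinearMap.ker_eq_bot.mpr h)
  have hv : LinearIndependent A v := by
    refine Module.IsLocalRing.linearIndependent_of_flat v ?_
    refine LinearIndependent.of_comp (φ.toLinearMap.liftBaseChange (ResidueField A)) ?_
    convert hw using 1
    funext s
    simp [v, MvPolynomial.coe_basisMonomials, MvPolynomial.aeval_monomial, map_finsuppProd]
  rw [algebraicIndependent_iff_injective_aeval]
  intro p q hpq
  have key : ∀ r : MvPolynomial ι A, MvPolynomial.aeval z r =
      Finsupp.linearCombination A v ((MvPolynomial.basisMonomials ι A).repr r) := by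
    intro r
    conv_lhs => rw [← (MvPolynomial.basisMonomials ι A).linearCombination_repr r]
    exact Finsupp.apply_linearCombination A (MvPolynomial.aeval z).toLinearMap _ _
  rw [key, key] at hpq
  exact (MvPolynomial.basisMonomials ι A).repr.injective (hv hpq)

/-- Zariski's main theorem at the closed point: every element is a quotient of elements integral
over the subalgebra generated by lifts of a system of parameters and of a residual transcendence basis,
with unit denominator. -/
lemma exists_integral_fraction {A B : Type u} [CommRing A] [CommRing B] [IsDomain A] [IsDomain B] [IsLocalRing A]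
    [IsLocalRing B] [Algebra A B] [IsLocalHom (algebraMap A B)] [FaithfulSMul A B]
    [Algebra.EssFiniteType A B] (X Y : Set B) (hX : X.Finite) (hY : Y.Finite)
    (hXm : maximalIdeal B ≤ (Ideal.map (algebraMap A B) (maximalIdeal A) ⊔ Ideal.span X).radical)
    (hXm' : X ⊆ maximalIdeal B)
    (hYalg : ∀ a : B, IsAlgebraic (Algebra.adjoin (ResidueField A) (residue B '' Y)) (residue B a)) :
    ∀ b : B, ∃ t : B, IsUnit t ∧ IsIntegral (Algebra.adjoin A (X ∪ Y)) t ∧
      IsIntegral (Algebra.adjoin A (X ∪ Y)) (b * t) := by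
  classical
  obtain ⟨σ, hσ⟩ := (Algebra.essFiniteType_iff A B).mp inferInstance
  let σ' : Finset B := σ ∪ (hX.union hY).toFinset
  let S := Algebra.adjoin A (σ' : Set B)
  have hσS : Algebra.adjoin A (σ : Set B) ≤ S := Algebra.adjoin_mono (by simp [σ'])
  haveI hloc : IsLocalization ((IsUnit.submonoid B).comap (algebraMap S B)) B :=
    (Algebra.essFiniteType_cond_iff A B σ').mpr fun b => by
      obtain ⟨t, ht, htu, hbt⟩ := hσ b
      exact ⟨t, hσS ht, htu, hσS hbt⟩
  haveI : Algebra.FiniteType A S := (Subalgebra.fg_iff_finiteType _).mp (Subalgebra.fg_adjoin_finset _)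
  let R1 := Algebra.adjoin A (X ∪ Y)
  have hle : R1 ≤ S := Algebra.adjoin_mono (fun x hx => by simp [σ']; tauto)
  letI : Algebra R1 S := (Subalgebra.inclusion hle).toRingHom.toAlgebra
  haveI : IsScalarTower A R1 S := IsScalarTower.of_algebraMap_eq fun r => rfl
  haveI : IsScalarTower R1 S B := IsScalarTower.of_algebraMap_eq fun r => rfl
  haveI : Algebra.FiniteType R1 S := Algebra.FiniteType.of_restrictScalars_finiteType A R1 S
  let q : PrimeSpectrum S := ⟨(maximalIdeal B).comap (algebraMap S B), inferInstance⟩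
  let ψ : R1 →+* ResidueField B := (residue B).comp (algebraMap R1 B)
  have hψ : ∀ c ∈ Algebra.adjoin (ResidueField A) (residue B '' Y), c ∈ ψ.range := by
    intro c hc
    induction hc using Algebra.adjoin_induction with
    | mem x hx =>
      obtain ⟨y, hy, rfl⟩ := hx
      exact ⟨⟨y, Algebra.subset_adjoin (Or.inr hy)⟩, rfl⟩
    | algebraMap r =>
      obtain ⟨a, rfl⟩ := residue_surjective r
      refine ⟨algebraMap A R1 a, ?_⟩
      rfl
    | add x y _ _ hx hy => exact add_mem hx hy
    | mul x y _ _ hx hy => exact mul_mem hx hy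
  let P0 := q.asIdeal.comap (algebraMap R1 S)
  have hmin : ∀ q' : PrimeSpectrum S, q'.asIdeal.comap (algebraMap R1 S) = P0 → q'.asIdeal ≤ q.asIdeal →
      q.asIdeal ≤ q'.asIdeal := by
    intro q' hq' hle' a ha
    obtain ⟨n, hn⟩ := hXm ha
    let I0 : Ideal S := (maximalIdeal A).map (algebraMap A S) ⊔ Ideal.span (algebraMap S B ⁻¹' X)
    have hI0 : (maximalIdeal A).map (algebraMap A B) ⊔ Ideal.span X ≤ I0.map (algebraMap S B) := by
      refine sup_le ?_ (Ideal.span_le.mpr fun x hx => ?_)
      · rw [IsScalarTower.algebraMap_eq A S B, ← Ideal.map_map]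
        exact Ideal.map_mono le_sup_left
      · exact Ideal.mem_map_of_mem (algebraMap S B)
          (x := ⟨x, hle (Algebra.subset_adjoin (Or.inl hx))⟩)
          (Ideal.mem_sup_right (Ideal.subset_span (show (⟨x, hle (Algebra.subset_adjoin (Or.inl hx))⟩ : S) ∈ algebraMap S B ⁻¹' X from hx)))
    have hI0q : I0 ≤ q'.asIdeal := by
      have hm : ∀ r : R1, (algebraMap R1 B r) ∈ maximalIdeal B → algebraMap R1 S r ∈ q'.asIdeal := by
        intro r hr
        change r ∈ q'.asIdeal.comap (algebraMap R1 S)
        rw [hq']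
        exact hr
      refine sup_le (Ideal.map_le_iff_le_comap.mpr fun r hr => ?_) (Ideal.span_le.mpr fun x hx => ?_)
      · exact hm (algebraMap A R1 r) (by
          rw [← IsScalarTower.algebraMap_apply]
          exact (IsLocalRing.map_maximalIdeal_le _ ) (Ideal.mem_map_of_mem _ hr))
      · exact hm ⟨(x : B), Algebra.subset_adjoin (Or.inl hx)⟩ (hXm' hx)
    obtain ⟨⟨i, t⟩, hit⟩ := (IsLocalization.mem_map_algebraMap_iff
      ((IsUnit.submonoid B).comap (algebraMap S B)) B).mp (hI0 hn)
    have hmem : a ^ n * (t : S) ∈ q'.asIdeal := by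
      have : a ^ n * (t : S) = i := Subtype.ext hit
      rw [this]
      exact hI0q i.2
    rcases q'.isPrime.mem_or_mem hmem with h | h
    · exact q'.isPrime.mem_of_pow_mem n h
    · exact absurd (hle' h) (fun hc => (IsLocalRing.mem_maximalIdeal _).mp hc t.2)
  have hmax : ∀ q' : PrimeSpectrum S, q'.asIdeal.comap (algebraMap R1 S) = P0 → q.asIdeal ≤ q'.asIdeal →
      q'.asIdeal ≤ q.asIdeal := by
    intro q' hq' hle' a ha
    by_contra haq
    have hane : residue B (a : B) ≠ 0 := fun h => haq ((IsLocalRing.residue_eq_zero_iff _).mp h)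
    obtain ⟨p, hp0, hp⟩ := (hYalg (a : B)).exists_nonzero_coeff_and_aeval_eq_zero
      (mem_nonZeroDivisors_of_ne_zero hane)
    have hlift : p.map (algebraMap _ (ResidueField B)) ∈ Polynomial.lifts ψ := by
      rw [Polynomial.lifts_iff_coeff_lifts]
      intro m
      rw [Polynomial.coeff_map]
      exact hψ _ (p.coeff m).2
    obtain ⟨pt, hpt⟩ := (Polynomial.mem_lifts _).mp hlift
    let pS := pt.map (algebraMap R1 S)
    have hev : pS.eval a ∈ q.asIdeal := by
      change algebraMap S B (pS.eval a) ∈ maximalIdeal B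
      rw [← IsLocalRing.residue_eq_zero_iff, ← Polynomial.eval₂_at_apply, Polynomial.hom_eval₂,
        ← Polynomial.eval_map, Polynomial.map_map]
      have : ((residue B).comp (algebraMap S B)).comp (algebraMap R1 S) = ψ := by
        ext r; rfl
      rw [this, hpt, Polynomial.eval_map]
      exact hp
    have hc0 : algebraMap R1 S (pt.coeff 0) ∈ q'.asIdeal := by
      have hdiv : pS.eval a - pS.eval 0 ∈ q'.asIdeal := by
        obtain ⟨c, hc⟩ := pS.evalSubFactor a 0
        rw [hc, sub_zero]
        exact Ideal.mul_mem_left _ _ ha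
      have : algebraMap R1 S (pt.coeff 0) = pS.eval 0 := by
        rw [← Polynomial.coeff_zero_eq_eval_zero, Polynomial.coeff_map]
      rw [this]
      simpa using Ideal.sub_mem _ (hle' hev) hdiv
    have : pt.coeff 0 ∈ P0 := hq' ▸ hc0
    apply hp0
    apply Subtype.val_injective
    have h3 : ψ (pt.coeff 0) = (p.map (algebraMap _ (ResidueField B))).coeff 0 := by
      rw [← hpt, Polynomial.coeff_map]
    rw [Polynomial.coeff_map] at h3
    exact h3.symm.trans ((IsLocalRing.residue_eq_zero_iff _).mpr this)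
  haveI : Algebra.QuasiFiniteAt R1 q.asIdeal := by
    refine Algebra.QuasiFiniteAt.of_isOpen_singleton_fiber q ?_
    let e := PrimeSpectrum.preimageHomeomorphFiber R1 S (q.comap (algebraMap R1 S))
    rw [← e.isOpen_image, Set.image_singleton]
    have hspec : ∀ x y : ↥(PrimeSpectrum.comap (algebraMap R1 S) ⁻¹' {q.comap (algebraMap R1 S)}),
        x ⤳ y → (x : PrimeSpectrum S).asIdeal ≤ (y : PrimeSpectrum S).asIdeal := fun x y h =>
      (PrimeSpectrum.le_iff_specializes _ _).mpr (h.map continuous_subtype_val)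
    haveI : IsNoetherianRing ((q.comap (algebraMap R1 S)).asIdeal.Fiber S) :=
      Algebra.FiniteType.isNoetherianRing (q.comap (algebraMap R1 S)).asIdeal.ResidueField _
    haveI : IsJacobsonRing ((q.comap (algebraMap R1 S)).asIdeal.Fiber S) :=
      isJacobsonRing_of_finiteType (A := (q.comap (algebraMap R1 S)).asIdeal.ResidueField)
    refine ((PrimeSpectrum.isOpen_singleton_tfae_of_isNoetherian_of_isJacobsonRing
      (e ⟨q, rfl⟩)).out 2 0 rfl rfl).mp ⟨?_, ?_⟩
    · refine isClosed_of_closure_subset fun w hw => ?_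
      have h1 := hspec ⟨q, rfl⟩ (e.symm w) (by
        have := (specializes_iff_mem_closure.mpr hw).map e.symm.continuous
        rwa [e.symm_apply_apply] at this)
      have h2 := hmax (e.symm w).1 (congrArg PrimeSpectrum.asIdeal (e.symm w).2) h1
      have h3 : e.symm w = ⟨q, rfl⟩ := Subtype.ext (PrimeSpectrum.ext (le_antisymm h2 h1))
      rw [Set.mem_singleton_iff, ← h3, e.apply_symm_apply]
    · intro x y hxy hx
      rw [Set.mem_singleton_iff] at hx
      subst hx
      have h1 := hspec (e.symm y) ⟨q, rfl⟩ (by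
        have := hxy.map e.symm.continuous
        rwa [e.symm_apply_apply] at this)
      have h2 := hmin (e.symm y).1 (congrArg PrimeSpectrum.asIdeal (e.symm y).2) h1
      have h3 : e.symm y = ⟨q, rfl⟩ := Subtype.ext (PrimeSpectrum.ext (le_antisymm h1 h2))
      rw [Set.mem_singleton_iff, ← h3, e.apply_symm_apply]
  obtain ⟨S', hfin, r, hr, hbij⟩ :=
    Algebra.QuasiFiniteAt.exists_fg_and_exists_notMem_and_awayMap_bijective (R := R1) q.asIdeal
  haveI : Module.Finite R1 S' := ⟨(Submodule.fg_top _).mpr hfin⟩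
  have hpow : ∀ x : S, ∃ m : ℕ, ∃ c : S', x * (r : S) ^ m = (c : S) := by
    intro s
    obtain ⟨w, hw⟩ := hbij.2 (algebraMap S _ s)
    obtain ⟨⟨c, ⟨_, m, rfl⟩⟩, hc⟩ := IsLocalization.surj (Submonoid.powers r) w
    have h2 := congrArg (Localization.awayMap S'.val.toRingHom r) hc
    have key : ∀ x : S', Localization.awayMap S'.val.toRingHom r (algebraMap S' _ x) =
        algebraMap S _ (S'.val.toRingHom x) := fun x => IsLocalization.map_eq _ x
    rw [map_mul, hw, key, key, ← map_mul] at h2
    have hr0 : S'.val.toRingHom r ≠ 0 := fun h => hr ((show (r : S) = 0 from h) ▸ Ideal.zero_mem _)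
    have hinj : Function.Injective (algebraMap S (Localization.Away (S'.val.toRingHom r))) :=
      IsLocalization.injective _ (M := Submonoid.powers (S'.val.toRingHom r))
        (powers_le_nonZeroDivisors_of_noZeroDivisors hr0)
    exact ⟨m, c, hinj h2⟩
  have hint : ∀ c : S', IsIntegral R1 (algebraMap S B (c : S)) := fun c =>
    ((Algebra.IsIntegral.isIntegral (R := R1) c).map S'.val).map (IsScalarTower.toAlgHom R1 S B)
  have hru : IsUnit (algebraMap S B (r : S)) := by
    by_contra h
    exact hr h
  intro b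
  obtain ⟨⟨s, t⟩, e⟩ := IsLocalization.surj ((IsUnit.submonoid B).comap (algebraMap S B)) b
  obtain ⟨m1, c1, h1⟩ := hpow s
  obtain ⟨m2, c2, h2⟩ := hpow t
  refine ⟨algebraMap S B ((t : S) * (r : S) ^ (m1 + m2)), ?_, ?_, ?_⟩
  · rw [map_mul, map_pow]
    exact (show IsUnit (algebraMap S B (t : S)) from t.2).mul (hru.pow _)
  · rw [show (t : S) * (r : S) ^ (m1 + m2) = ((c2 * r ^ m1 : S') : S) by
      push_cast
      rw [← h2]
      ring]
    exact hint _
  · rw [map_mul, ← mul_assoc, e, ← map_mul,
      show s * (r : S) ^ (m1 + m2) = ((c1 * r ^ m2 : S') : S) by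
      push_cast
      rw [← h1]
      ring]
    exact hint _

lemma isAlgebraic_core {A B : Type u} [CommRing A] [CommRing B] [IsDomain A] [IsDomain B] {Z : Set B}
    [Algebra A B] (h : ∀ b : B, ∃ t : B, IsUnit t ∧ IsIntegral (Algebra.adjoin A Z) t ∧
      IsIntegral (Algebra.adjoin A Z) (b * t)) :
    Algebra.IsAlgebraic (Algebra.adjoin A Z) B := by
  refine ⟨fun b => ?_⟩
  obtain ⟨t, ht, h1, h2⟩ := h b
  refine IsAlgebraic.of_mul (mem_nonZeroDivisors_of_ne_zero ht.ne_zero) h1.isAlgebraic ?_
  rw [mul_comm]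
  exact h2.isAlgebraic

end Groth.Agent.DimClosedH1
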