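import Groth.Agent.Lib.DimClosedH1.Core

/-!
# Systems of parameters lifted to a local ring
-/

universe u

namespace Groth.Agent.DimClosedH1

open IsLocalRing Order

/-- A system of parameters of `B ⧸ J` lifted to `B`. -/
lemma exists_sop {B : Type u} [CommRing B] [IsLocalRing B] (J : Ideal B) (hJ : J ≠ ⊤)
    [IsNoetherianRing (B ⧸ J)] :
    ∃ (n : ℕ) (X : Set B), X.Finite ∧ Cardinal.mk X ≤ n ∧ ringKrullDim (B ⧸ J) = n ∧
      X ⊆ maximalIdeal B ∧ maximalIdeal B ≤ (J ⊔ Ideal.span X).radical := by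
  haveI : Nontrivial (B ⧸ J) := Ideal.Quotient.nontrivial_iff.mpr hJ
  haveI : IsLocalRing (B ⧸ J) := IsLocalRing.of_surjective' (Ideal.Quotient.mk J) Ideal.Quotient.mk_surjective
  haveI : IsLocalHom (Ideal.Quotient.mk J) := IsLocalHom.of_surjective _ Ideal.Quotient.mk_surjective
  obtain ⟨s, hs, hcard⟩ := (maximalIdeal (B ⧸ J)).exists_finset_card_eq_height_of_isNoetherianRing
  let lift0 := Function.surjInv (Ideal.Quotient.mk_surjective (I := J))
  have hlift : ∀ z, Ideal.Quotient.mk J (lift0 z) = z := Function.surjInv_eq _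
  refine ⟨s.card, lift0 '' (s : Set (B ⧸ J)), s.finite_toSet.image _,
    Cardinal.mk_image_le.trans_eq Cardinal.mk_coe_finset, ?_, ?_, ?_⟩
  · rw [← IsLocalRing.maximalIdeal_height_eq_ringKrullDim, ← hcard]; rfl
  · rintro _ ⟨z, hz, rfl⟩ hu
    exact (IsLocalRing.mem_maximalIdeal z).mp (hs.1.2 (Ideal.subset_span hz))
      (hlift z ▸ hu.map (Ideal.Quotient.mk J))
  · intro b hb
    have hb' : Ideal.Quotient.mk J b ∈ maximalIdeal (B ⧸ J) := fun hu =>
      (IsLocalRing.mem_maximalIdeal b).mp hb (isUnit_of_map_unit _ _ hu)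
    have hrad : maximalIdeal (B ⧸ J) ≤ (Ideal.span (s : Set (B ⧸ J))).radical := by
      rw [Ideal.radical_eq_sInf]
      refine le_sInf fun Q hQ => ?_
      haveI := hQ.2
      exact hs.2 ⟨hQ.2, hQ.1⟩ (IsLocalRing.le_maximalIdeal hQ.2.ne_top)
    obtain ⟨n, hn⟩ := hrad hb'
    refine ⟨n, ?_⟩
    have hmap : (J ⊔ Ideal.span (lift0 '' (s : Set (B ⧸ J)))).map (Ideal.Quotient.mk J) =
        Ideal.span (s : Set (B ⧸ J)) := by
      rw [Ideal.map_sup, Ideal.map_quotient_self, bot_sup_eq, Ideal.map_span, Set.image_image]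
      simp [hlift]
    rw [← hmap, ← map_pow] at hn
    have := Ideal.mem_comap.mpr hn
    rwa [Ideal.comap_map_of_surjective _ Ideal.Quotient.mk_surjective, ← RingHom.ker_eq_comap_bot,
      Ideal.mk_ker, sup_eq_left.mpr le_sup_left] at this

/-- Adding an element outside every minimal prime lowers the dimension. -/
lemma ringKrullDim_quotient_sup_add_one_le {R : Type u} [CommRing R] {I : Ideal R} {g : R}
    (hg : ∀ q ∈ I.minimalPrimes, g ∉ q) :
    ringKrullDim (R ⧸ (I ⊔ Ideal.span {g})) + 1 ≤ ringKrullDim (R ⧸ I) := by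
  by_cases h : I ⊔ Ideal.span {g} = ⊤
  · rw [h, ringKrullDim_eq_bot_of_subsingleton]
    simp
  have : Nonempty (PrimeSpectrum.zeroLocus (R := R) (I ⊔ Ideal.span {g} : Ideal R)) := by
    rwa [Set.nonempty_coe_sort, Set.nonempty_iff_ne_empty, ne_eq, PrimeSpectrum.zeroLocus_empty_iff_eq_top]
  obtain ⟨x0⟩ := this
  have : Nonempty (PrimeSpectrum.zeroLocus (R := R) (I : Ideal R)) :=
    ⟨⟨x0.1, (PrimeSpectrum.mem_zeroLocus _ _).mpr (Set.Subset.trans (SetLike.coe_subset_coe.mpr le_sup_left) x0.2)⟩⟩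
  haveI : Nonempty (PrimeSpectrum.zeroLocus (R := R) (I ⊔ Ideal.span {g} : Ideal R)) := ⟨x0⟩
  rw [ringKrullDim_quotient, ringKrullDim_quotient, Order.krullDim_eq_iSup_length,
    Order.krullDim_eq_iSup_length, ← WithBot.coe_one, ← WithBot.coe_add,
    ENat.iSup_add, WithBot.coe_le_coe, iSup_le_iff]
  intro l
  have hI : I ≤ l.head.1.asIdeal := le_trans le_sup_left (SetLike.coe_subset_coe.mp l.head.2)
  obtain ⟨p, hp, hp'⟩ := Ideal.exists_minimalPrimes_le hI
  let p' : PrimeSpectrum.zeroLocus (R := R) (I : Ideal R) :=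
    ⟨⟨p, hp.1.1⟩, SetLike.coe_subset_coe.mpr hp.1.2⟩
  let incl : PrimeSpectrum.zeroLocus (R := R) (I ⊔ Ideal.span {g} : Ideal R) →
      PrimeSpectrum.zeroLocus (R := R) (I : Ideal R) := fun x =>
    ⟨x.1, Set.Subset.trans (SetLike.coe_subset_coe.mpr le_sup_left) x.2⟩
  have hlt : p' < incl l.head := by
    refine lt_of_le_of_ne hp' fun h => hg p hp ?_
    have : g ∈ l.head.1.asIdeal := l.head.2 (Ideal.mem_sup_right (Ideal.mem_span_singleton_self g))
    have h' : p = l.head.1.asIdeal := congrArg (fun x => x.1.asIdeal) h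
    rwa [h']
  refine le_trans ?_ (le_iSup _ ((l.map incl (fun _ _ ↦ id)).cons p' hlt))
  simp

end Groth.Agent.DimClosedH1
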